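import Cfsg.Agent.Helper28.Fi22b.Facts0
import Cfsg.Agent.Helper28.Fi22b.Facts1
import Cfsg.Agent.Helper28.Fi22b.Facts2
import Cfsg.Agent.Helper28.Fi22b.Facts3
import Cfsg.Agent.Helper28.Fi22b.Misc
import Cfsg.Agent.Helper28.Fi22b.Perm0
import Cfsg.Agent.Helper28.Fi22b.Perm1
import Cfsg.Agent.Helper28.Fi22b.Perm2
set_option autoImplicit false
namespace Cfsg.Agent.Helper28.Fi22b
open Cfsg.Agent.Helper28
theorem perm_all : ∀ r, 9 ≤ r → r < 93 → relOk ptabs (tabs.word r) 0 ptabs.n = true := by
  intro r h1 h2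
  by_cases c9 : r < 36
  · exact permRange_sound ptabs tabs.word letTr.get 12 4095 perm_eq 9 27 perm_ok_9 r (by omega) (by omega)
  by_cases c36 : r < 62
  · exact permRange_sound ptabs tabs.word letTr.get 12 4095 perm_eq 36 26 perm_ok_36 r (by omega) (by omega)
  by_cases c62 : r < 89
  · exact permRange_sound ptabs tabs.word letTr.get 12 4095 perm_eq 62 27 perm_ok_62 r (by omega) (by omega)
  by_cases c89 : r < 91
  · exact permRange_sound ptabs tabs.word letTr.get 12 4095 perm_eq 89 2 perm_ok_89 r (by omega) (by omega)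
  by_cases c91 : r < 92
  · exact permRange_sound ptabs tabs.word letTr.get 12 4095 perm_eq 91 1 perm_ok_91 r (by omega) (by omega)
  by_cases c92 : r < 93
  · exact permRange_sound ptabs tabs.word letTr.get 12 4095 perm_eq 92 1 perm_ok_92 r (by omega) (by omega)
  omega
theorem subfix_all : ∀ r, r < 9 → relOk ptabs (tabs.word r) 0 1 = true := allLt_sound _ _ subfix_ok
def factBounds : List Nat := [0, 7047, 14094, 21141, 28188]
end Cfsg.Agent.Helper28.Fi22b
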